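import Mathlib
import Cfsg.Agent.BpSpor.RowAll
import Cfsg.Agent.UGT.End.MEleven
import Cfsg.Agent.OddHalf.Table.OutMTwelve
import Cfsg.Agent.J4Type.Aut22
import Cfsg.Agent.SporadicA.MathieuRecog
import Cfsg.Agent.UGT.MTwentyThree.Aut
import Cfsg.Agent.KFacts.M24Two.Out
import Cfsg.Agent.OddHalf.D4.Spor.J1Out
import Cfsg.Agent.OddHalf.D8.RowJ3
import Cfsg.Agent.KFacts.J4.SheetJ4
import Cfsg.Agent.KFacts.CoTwo.QuotInst
import Cfsg.Agent.Schreier.CoTwoStab
import Cfsg.Agent.TypeM.FactsMcL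
import Cfsg.Agent.UGT.End.McLOuter
import Cfsg.Agent.OddHalf.D8.SheetMap_m3
import Cfsg.Agent.TypeM.OutLyFin
import Cfsg.Agent.R08.X4Gamma_m3
import Cfsg.Agent.KFacts.HN.Sheet
import Cfsg.Agent.KFacts.Th.Main
import Cfsg.Agent.BpSpor.Row.J2
import Cfsg.Agent.BpSpor.Row.Co1
import Cfsg.Agent.BpSpor.Row.Co3
import Cfsg.Agent.BpSpor.Row.HS
import Cfsg.Agent.BpSpor.Row.He
import Cfsg.Agent.BpSpor.Row.Ru
import Cfsg.Agent.BpSpor.FiTThFive
import Cfsg.Agent.BpSpor.Row.B
import Cfsg.Agent.BpSpor.Row.Tits_m3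
import Cfsg.Agent.BpSpor.Row.Fi24
import Cfsg.Agent.BpSpor.Row.M
import Cfsg.Agent.CpAut.Alt
import Cfsg.Agent.OddCyclic.EmpFFAlt
import Cfsg.Agent.FastGrp
import Cfsg.Agent.Prune
set_option linter.all false
prune_inst 0x7f00000000000000000000000000000000000000000000000000000000000000000000000000000000000000000000000000000000000000000000000000000000000000000000000000000000000000003fffffffffffffffffffffffffffbeffbdffffffff
open scoped Cfsg.Agent.FastGrp

/-!
# Automorphisms of odd prime order of the alternating and sporadic groups are inner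

`OddInn K` : every automorphism of odd prime order of `K` is inner (`BpSpor.Inn.OddInn`). `oddInn_alt` : `A_n`, `n = 5`
or `n ≥ 7`; `oddInn_sporadic` : the 26 sporadic groups; `oddInn_tits` : the Tits group. (`A_6 = PSL_2(9)` and the groups
of Lie type are treated otherwise.)
-/

set_option autoImplicit false

namespace Cfsg.Agent.H505.OddInn

open Cfsg Cfsg.Agent.BpSpor.Inn

theorem m11 {K : Type*} [Group K] (h : Spor.IsoM11 K) : OddInn K := by
  have : Finite K := by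
    obtain ⟨e⟩ := h
    exact Finite.of_equiv _ e.symm.toEquiv
  exact of_inner (Cfsg.Agent.UGT.End.MEleven.inner h)

theorem of_mem_or_mem {K : Type*} [Group K] {a : MulAut K} (ha : a * a = 1)
    (h : ∀ φ : MulAut K, φ ∈ (MulAut.conj : K →* MulAut K).range ∨ a * φ ∈ (MulAut.conj : K →* MulAut K).range) :
    OddInn K := by
  apply of_pow
  intro α
  rcases h α with h1 | ⟨x, hx⟩
  · exact pow_mem h1 2
  · have h2 : α = a * MulAut.conj x := by rw [hx, ← mul_assoc, ha, one_mul]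
    refine ⟨a x * x, ?_⟩
    rw [h2, pow_two]
    ext u
    have h3 : ∀ v : K, a (a v) = v := fun v => by
      rw [← MulAut.mul_apply, ha, MulAut.one_apply]
    simp only [MulAut.mul_apply, MulAut.conj_apply, map_mul, map_inv, h3, mul_inv_rev, mul_assoc]

theorem m12 {K : Type*} [Group K] (h : Spor.IsoM12 K) : OddInn K := by
  obtain ⟨e⟩ := h
  exact OddInn.congr e (of_mem_or_mem Cfsg.Agent.OddHalf.Table.OutMTwelve.al_mul_al
    Cfsg.Agent.OddHalf.Table.OutMTwelve.mem_or_mem)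

section

open Cfsg.Agent.J4Type.Aut22 (D22 mem_D22_iff M22_le_D22 exists_conj eq_one_of_centralizes)
open Cfsg.Agent.SporadicA.MathieuRecog (mem_M22_iff simple_M22)

theorem sq_mem_M22 {d : Equiv.Perm GolayPt} (hd : d ∈ D22) : d * d ∈ Spor.M22 := by
  obtain ⟨hM, h⟩ := (mem_D22_iff d).1 hd
  refine (mem_M22_iff _).2 ⟨M24.mul_mem hM hM, ?_⟩
  rcases h with h | h
  · exact ⟨by rw [Equiv.Perm.mul_apply, h.1, h.1], by rw [Equiv.Perm.mul_apply, h.2, h.2]⟩
  · exact ⟨by rw [Equiv.Perm.mul_apply, h.1, h.2], by rw [Equiv.Perm.mul_apply, h.2, h.1]⟩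

theorem m22 {K : Type*} [Group K] (h : Spor.IsoM22 K) : OddInn K := by
  obtain ⟨e⟩ := h
  refine OddInn.congr e (of_pow fun φ => ?_)
  obtain ⟨d, hd, hφ⟩ := exists_conj φ
  refine ⟨⟨d * d, sq_mem_M22 hd⟩, ?_⟩
  ext1 x
  apply Subtype.ext
  show d * d * (x : Equiv.Perm GolayPt) * (d * d)⁻¹ = (((φ ^ 2) x : ↥Spor.M22) : Equiv.Perm GolayPt)
  rw [pow_two, MulAut.mul_apply, hφ, hφ]
  group

end

theorem m23 {K : Type*} [Group K] (h : Spor.IsoM23 K) : OddInn K := by
  obtain ⟨e⟩ := h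
  exact OddInn.congr e (of_inner fun α => Cfsg.Agent.UGT.MTwentyThree.Aut.exists_conj α)

theorem m24 {K : Type*} [Group K] (h : Spor.IsoM24 K) : OddInn K := by
  obtain ⟨e⟩ := h
  exact OddInn.congr e (of_inner fun α => Cfsg.Agent.KFacts.M24Two.Out.exists_conj α)

theorem j1 {K : Type*} [Group K] (h : Spor.IsoJ1 K) : OddInn K := by
  obtain ⟨e⟩ := h
  exact OddInn.congr e (of_inner fun α => Cfsg.Agent.OddHalf.D4.Spor.J1Out.inn α)

theorem j3 {K : Type*} [Group K] (h : Spor.IsoJ3 K) : OddInn K := by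
  obtain ⟨z, Q, v, ρ, M, hc, hi, hs⟩ := Cfsg.Agent.OddHalf.D8.RowJ3.sheet' K h
  exact of_index hi

theorem j4 {K : Type*} [Group K] (h : Spor.IsoJ4 K) : OddInn K := by
  obtain ⟨h1, h2, ⟨F⟩⟩ := Cfsg.Agent.KFacts.J4.Base.exists_full h
  exact of_inner (Cfsg.Agent.KFacts.J4.SheetJ4.inner F)

theorem co2 {K : Type*} [Group K] (h : Spor.IsoCo2 K) : OddInn K := by
  obtain ⟨e⟩ := h
  have := Cfsg.Agent.Schreier.CoTwoStab.finite
  exact OddInn.congr e (of_inner fun α => Cfsg.Agent.KFacts.CoTwo.QuotInst.dataT.allInner α)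

theorem mcl {K : Type*} [Group K] (h : Spor.IsoMcL K) : OddInn K := by
  obtain ⟨hfin, hs, hcard, ⟨L⟩⟩ := Cfsg.Agent.TypeM.FactsMcL.facts h
  intro p hp hp2 α hα
  have h1 : Odd (orderOf α) := by
    rw [hα]
    exact hp.odd_of_ne_two hp2
  obtain ⟨g, hg⟩ := Cfsg.Agent.UGT.End.McLOuter.inner_of_odd L hcard α h1
  exact ⟨g, hg.symm⟩

theorem on {K : Type*} [Group K] (h : Spor.IsoON K) : OddInn K := by
  obtain ⟨e⟩ := h
  refine OddInn.congr e (of_index ?_)
  have h1 := Cfsg.Agent.KFacts.ON.Aut.index_le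
  have h2 := Cfsg.Agent.KFacts.ON.Aut.finite_aut
  have h0 : (MulAut.conj : Cfsg.Spor.ON →* MulAut Cfsg.Spor.ON).range.index ≠ 0 := Subgroup.index_ne_zero_of_finite
  omega

theorem ly {K : Type*} [Group K] (h : Spor.IsoLy K) : OddInn K :=
  of_inner' (Cfsg.Agent.TypeM.OutLyFin.inner h)

theorem fi22 {K : Type*} [Group K] (h : Spor.IsoFi22 K) : OddInn K := by
  obtain ⟨e⟩ := h
  refine OddInn.congr e (of_sq fun α => ?_)
  by_cases hα : ∃ x, α = MulAut.conj x
  · obtain ⟨x, rfl⟩ := hα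
    exact ⟨x * x, by rw [map_mul]⟩
  · push Not at hα
    exact Cfsg.Agent.OddHalf.Table.OutFi22.mul_outer α α hα hα

theorem hn {K : Type*} [Group K] (h : Spor.IsoHN K) : OddInn K := by
  obtain ⟨e⟩ := h
  exact OddInn.congr e (of_index Cfsg.Agent.KFacts.HN.out_index)

theorem th {K : Type*} [Group K] (h : Spor.IsoTh K) : OddInn K := by
  obtain ⟨e⟩ := h
  exact OddInn.congr e (of_inner Cfsg.Agent.KFacts.Th.Main.inner)

/-- **Automorphisms of odd prime order of the sporadic groups are inner.** -/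
theorem oddInn_sporadic {K : Type*} [Group K] (h : IsSporadicGroup K) : OddInn K := by
  rcases h with h | h | h | h | h | h | h | h | h | h | h | h | h | h | h | h | h | h | h | h | h | h | h | h | h | h
  · exact m11 h
  · exact m12 h
  · exact m22 h
  · exact m23 h
  · exact m24 h
  · exact j1 h
  · exact BpSpor.Inn.j2 h
  · exact j3 h
  · exact j4 h
  · exact BpSpor.Inn.co1 h
  · exact co2 h
  · exact BpSpor.Inn.co3 h
  · exact mcl h
  · exact BpSpor.Inn.hs h
  · exact BpSpor.Inn.suz h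
  · exact BpSpor.Inn.he h
  · exact BpSpor.Inn.ru h
  · exact on h
  · exact ly h
  · exact fi22 h
  · exact BpSpor.Inn.fi23 h
  · exact BpSpor.Inn.fi24 h
  · exact hn h
  · exact th h
  · exact BpSpor.Inn.b h
  · exact BpSpor.Inn.m h

/-- Automorphisms of odd prime order of the Tits group are inner. -/
theorem oddInn_tits {K : Type*} [Group K] (h : Lie.IsoTits K) : OddInn K := BpSpor.Inn.tits h

/-- Automorphisms of odd prime order of `A_n`, `n = 5` or `n ≥ 7`, are inner. -/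
theorem oddInn_alt {n : ℕ} (hn : 5 ≤ n) (hn6 : n ≠ 6) : OddInn ↥(alternatingGroup (Fin n)) := by
  rcases Nat.lt_or_ge n 7 with h | h
  · obtain rfl : n = 5 := by omega
    refine of_sq fun φ => ?_
    obtain ⟨σ, hσ⟩ := OddCyclic.EmpFFAlt.exists_conj φ
    have hs : σ * σ ∈ alternatingGroup (Fin 5) := by
      rw [Equiv.Perm.mem_alternatingGroup, map_mul]
      exact Int.units_mul_self _
    refine ⟨⟨σ * σ, hs⟩, ?_⟩
    apply MulEquiv.ext
    intro x
    apply Subtype.ext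
    rw [MulAut.mul_apply, hσ, hσ]
    show σ * (σ * (x : Equiv.Perm (Fin 5)) * σ⁻¹) * σ⁻¹ = σ * σ * (x : Equiv.Perm (Fin 5)) * (σ * σ)⁻¹
    group
  · exact fun p hp hp2 => CpAut.autInner_alt h hp hp2

end Cfsg.Agent.H505.OddInn
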